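import Mathlib
import Cfsg.Prelude.Def_SporadicB

set_option autoImplicit false

/-! # Project MCI (S2132): the involution centraliser `2.A8` of the McLaughlin group — interface

The model side (helper26) provides, for `M = ` the McLaughlin group, an involution `t`, the action
`φ` of `C_M(t)` on the 35 fixed points of `t` (labelled by the 35 splittings `4 | 4` of an 8-set, a
splitting being given by its half containing `0`), and an explicit Sylow 2-subgroup.  The packages
below are abstract. -/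

namespace Cfsg.Agent.Lib.Helper26.MCI

/-- Bit masks (bit `k` ↔ the point `k`) of the 35 four-element subsets of `{0,…,7}` containing
`0`, in increasing lexicographic order of the subsets. -/
def splitMasks : List ℕ := [15, 23, 39, 71, 135, 27, 43, 75, 139, 51, 83, 147, 99, 163, 195, 29, 45, 77, 141, 53, 85, 149, 101, 165, 197, 57, 89, 153, 105, 169, 201, 113, 177, 209, 225]

/-- The mask of the `i`-th splitting. -/
def splitMask (i : Fin 35) : ℕ := splitMasks.getD i.1 0

/-- Two splittings are adjacent iff their halves containing `0` meet in exactly two points. -/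
def splitAdj (i j : Fin 35) : Bool :=
  Nat.beq ((List.range 8).countP (fun k => (splitMask i).testBit k && (splitMask j).testBit k)) 2

/-- The 3-cycle `0 ↦ 1 ↦ 2 ↦ 0`. -/
def g1 : Equiv.Perm (Fin 8) := Equiv.swap 0 1 * Equiv.swap 1 2

/-- The 7-cycle `1 ↦ 2 ↦ … ↦ 7 ↦ 1`. -/
def g2 : Equiv.Perm (Fin 8) :=
  Equiv.swap 1 2 * Equiv.swap 2 3 * Equiv.swap 3 4 * Equiv.swap 4 5 * Equiv.swap 5 6 * Equiv.swap 6 7

/-- The permutation of the 35 splittings induced by `g1` (`i ↦ l1[i]`; a four-set and its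
complement give the same splitting). -/
def l1 : List ℕ := [0, 1, 2, 3, 4, 34, 33, 32, 31, 30, 29, 28, 27, 26, 25, 5, 6, 7, 8, 9, 10, 11, 12, 13, 14, 24, 23, 22, 21, 20, 19, 18, 17, 16, 15]

/-- The permutation of the 35 splittings induced by `g2`. -/
def l2 : List ℕ := [15, 16, 17, 18, 0, 19, 20, 21, 1, 22, 23, 2, 24, 3, 4, 25, 26, 27, 5, 28, 29, 6, 30, 7, 8, 31, 32, 9, 33, 10, 11, 34, 12, 13, 14]

/-- The statement of S2132 for a group `G`. -/
def Stmt (G : Type) [Group G] : Prop :=
  (∀ x y : G, orderOf x = 2 → orderOf y = 2 → IsConj x y) ∧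
  ∃ t : G, orderOf t = 2 ∧
    Cfsg.IsNonsplitDoubleCover ↥(Subgroup.centralizer ({t} : Set G)) ↥(alternatingGroup (Fin 8))

/-- [TRANSPORT] the statement is invariant under isomorphism. -/
def PkgTransport : Prop :=
  ∀ {A B : Type} [Group A] [Group B] (_ : A ≃* B), Stmt A → Stmt B

/-- [SYL] if all involutions of one Sylow 2-subgroup are conjugate to `t`, all involutions are
conjugate. -/
def PkgSyl : Prop :=
  ∀ {M : Type} [Group M] [Finite M] (S : Subgroup M) (t : M) (k : ℕ),
    Nat.card S = 2 ^ k → ¬ 2 ^ (k + 1) ∣ Nat.card M →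
    (∀ s ∈ S, orderOf s = 2 → IsConj s t) →
    ∀ x y : M, orderOf x = 2 → orderOf y = 2 → IsConj x y

/-- [AUT] the graph of the 35 splittings has at most `8!` automorphisms. -/
def PkgAut : Prop :=
  ∀ Q : Subgroup (Equiv.Perm (Fin 35)),
    (∀ π ∈ Q, ∀ i j : Fin 35, splitAdj (π i) (π j) = splitAdj i j) → Nat.card Q ≤ 40320

/-- [RHO] the action of `S_8` on the 35 splittings, with the values at `g1`, `g2`. -/
def PkgRho : Prop :=
  ∃ ρ : Equiv.Perm (Fin 8) →* Equiv.Perm (Fin 35), Function.Injective ρ ∧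
    (∀ i : Fin 35, ((ρ g1 i : Fin 35) : ℕ) = l1.getD i.1 0) ∧
    (∀ i : Fin 35, ((ρ g2 i : Fin 35) : ℕ) = l2.getD i.1 0)

/-- [A8GEN] `g1`, `g2` generate `A_8`. -/
def PkgA8Gen : Prop := Subgroup.closure {g1, g2} = alternatingGroup (Fin 8)

/-- [A8CEN] `A_8` has trivial centre. -/
def PkgA8Cen : Prop := Subgroup.center ↥(alternatingGroup (Fin 8)) = ⊥

/-- [NSDC] a surjection with kernel `{1, t}` onto a centreless group, and a square root of `t`,
give a non-split double cover. -/
def PkgNsdc : Prop :=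
  ∀ {C K : Type} [Group C] [Finite C] [Group K] (t : C) (ψ : C →* K),
    Function.Surjective ψ → t ≠ 1 → (∀ c : C, ψ c = 1 ↔ (c = 1 ∨ c = t)) →
    Subgroup.center K = ⊥ → (∃ c : C, c ^ 2 = t) → Cfsg.IsNonsplitDoubleCover C K

/-- [CORE] the centraliser of `t` is a non-split double cover of `A_8`. -/
def PkgCore : Prop :=
  ∀ {M : Type} [Group M] [Finite M] (t : M), orderOf t = 2 → ¬ 2 ^ 8 ∣ Nat.card M →
    ∀ φ : ↥(Subgroup.centralizer ({t} : Set M)) →* Equiv.Perm (Fin 35),
      (∀ c : ↥(Subgroup.centralizer ({t} : Set M)), φ c = 1 ↔ ((c : M) = 1 ∨ (c : M) = t)) →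
      (∀ (c : ↥(Subgroup.centralizer ({t} : Set M))) (i j : Fin 35),
        splitAdj (φ c i) (φ c j) = splitAdj i j) →
      (∃ c : ↥(Subgroup.centralizer ({t} : Set M)),
        ∀ i : Fin 35, ((φ c i : Fin 35) : ℕ) = l1.getD i.1 0) →
      (∃ c : ↥(Subgroup.centralizer ({t} : Set M)),
        ∀ i : Fin 35, ((φ c i : Fin 35) : ℕ) = l2.getD i.1 0) →
      (∃ c : M, c ^ 2 = t) →
      Cfsg.IsNonsplitDoubleCover ↥(Subgroup.centralizer ({t} : Set M))
        ↥(alternatingGroup (Fin 8))

end Cfsg.Agent.Lib.Helper26.MCI
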